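import Mathlib

/-!
# The no-name lemma for finite linear group actions on rational function fields
-/

universe u

open MvPolynomial IntermediateField

namespace Groth.Agent.H1Inv

/-- No-name lemma: the invariants of `L(y)` are purely transcendental over those of `L`. -/
theorem noName {k E : Type u} [Field k] [Field E] [CharZero E] [Algebra k E]
    (G : Subgroup (E ≃ₐ[k] E)) [Finite G] (L : IntermediateField k E)
    (hL : ∀ g ∈ G, ∀ a ∈ L, g a ∈ L) (hfaith : ∀ g ∈ G, (∀ a ∈ L, g a = a) → g = 1)
    {m : ℕ} (y : Fin m → E) (hy : AlgebraicIndependent L y)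
    (htop : adjoin k ((L : Set E) ∪ Set.range y) = ⊤)
    (hgy : ∀ g ∈ G, ∀ i, g (y i) ∈ Submodule.span L (Set.range y)) :
    ∃ t : Fin m → E, AlgebraicIndependent L t ∧
      adjoin k (((L ⊓ fixedField G : IntermediateField k E) : Set E) ∪ Set.range t) =
        fixedField G := by
  classical
  haveI : Fintype G := Fintype.ofFinite G
  have fixed_iff : ∀ x, x ∈ fixedField G ↔ ∀ g ∈ G, g x = x := fun x => mem_fixedField_iff G x
  have inv_sum : ∀ w : E, (∑ g : G, (g : E ≃ₐ[k] E) w) ∈ fixedField G := fun w => by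
    rw [fixed_iff]; intro h hh
    rw [map_sum]
    exact Fintype.sum_equiv (Equiv.mulLeft (⟨h, hh⟩ : G)) _ _ fun g => rfl
  -- invariant vectors span the space of the y's
  let V : Submodule L E := Submodule.span L (Set.range y)
  have hV : ∀ g ∈ G, ∀ v ∈ V, g v ∈ V := fun g hg v hv => by
    induction hv using Submodule.span_induction with
    | mem x hx => obtain ⟨i, rfl⟩ := hx; exact hgy g hg i
    | zero => rw [map_zero]; exact zero_mem _
    | add a b _ _ ha hb => rw [map_add]; exact add_mem ha hb
    | smul c a _ ha =>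
      rw [show c • a = (c : E) * a from rfl, map_mul]
      exact V.smul_mem (⟨g c, hL g hg _ c.2⟩ : L) ha
  let S : Set E := {v | v ∈ V ∧ v ∈ fixedField G}
  have hS : Submodule.span L S = V := by
    refine le_antisymm (Submodule.span_le.2 fun v hv => hv.1) fun w hw => ?_
    by_contra hn
    obtain ⟨φ, hφ, hker⟩ := Submodule.exists_le_ker_of_notMem hn
    let χ : G → (L →* L) := fun g =>
      { toFun := fun a => ⟨(g : E ≃ₐ[k] E) a, hL _ g.2 _ a.2⟩
        map_one' := Subtype.ext (map_one _)
        map_mul' := fun a b => Subtype.ext (map_mul (g : E ≃ₐ[k] E) (a : E) (b : E)) }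
    have hχ : Function.Injective χ := fun g h hgh => by
      have : ((h⁻¹ * g : G) : E ≃ₐ[k] E) = 1 := hfaith _ (h⁻¹ * g).2 fun a ha => by
        have e : (g : E ≃ₐ[k] E) a = (h : E ≃ₐ[k] E) a :=
          congrArg Subtype.val (DFunLike.congr_fun hgh (⟨a, ha⟩ : L))
        show (h : E ≃ₐ[k] E).symm ((g : E ≃ₐ[k] E) a) = a
        rw [e, AlgEquiv.symm_apply_apply]
      exact (inv_mul_eq_one.1 (Subtype.ext this)).symm
    have li := (linearIndependent_monoidHom L L).comp χ hχ
    have h0 := Fintype.linearIndependent_iff.1 li (fun g => φ ((g : E ≃ₐ[k] E) w)) (funext fun a => by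
      have hm : (∑ g : G, (g : E ≃ₐ[k] E) ((a : E) * w)) ∈ S :=
        ⟨sum_mem fun g _ => hV _ g.2 _ (V.smul_mem a hw), inv_sum _⟩
      have h1 := hker (Submodule.subset_span hm)
      rw [LinearMap.mem_ker, map_sum] at h1
      rw [Finset.sum_apply, Pi.zero_apply]
      refine (Finset.sum_congr rfl fun g _ => ?_).trans h1
      rw [Pi.smul_apply, smul_eq_mul, Function.comp_apply, map_mul,
        show (g : E ≃ₐ[k] E) (a : E) * (g : E ≃ₐ[k] E) w = χ g a • (g : E ≃ₐ[k] E) w from rfl,
        map_smul, smul_eq_mul, mul_comm])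
    exact hφ (h0 1)
  obtain ⟨b, hbS, hbspan, hbli⟩ := exists_linearIndependent L S
  rw [hS] at hbspan
  let B : Module.Basis b L V := (Module.Basis.span hbli).map (LinearEquiv.ofEq _ _ (by rw [Subtype.range_coe, hbspan]))
  let By : Module.Basis (Fin m) L V := Module.Basis.span hy.linearIndependent
  let t : Fin m → E := fun i => ((B.indexEquiv By).symm i : E)
  have htS : ∀ i, t i ∈ S := fun i => hbS ((B.indexEquiv By).symm i).2
  have htli : LinearIndependent L t := hbli.comp _ (Equiv.injective _)
  have htr : Set.range t = b := by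
    ext x; constructor
    · rintro ⟨i, rfl⟩; exact ((B.indexEquiv By).symm i).2
    · exact fun hx => ⟨B.indexEquiv By ⟨x, hx⟩, by simp [t]⟩
  choose c hc using fun j => Submodule.mem_span_range_iff_exists_fun L |>.1 (htS j).1
  have hyt : ∀ l, y l ∈ Submodule.span L (Set.range t) := fun l => by
    rw [htr, hbspan]; exact Submodule.subset_span ⟨l, rfl⟩
  choose d hd using fun l => Submodule.mem_span_range_iff_exists_fun L |>.1 (hyt l)
  have hcd : ∀ j i, ∑ l, c j l * d l i = if i = j then 1 else 0 := fun j i => by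
    have e : ∑ i, (∑ l, c j l * d l i) • t i = ∑ i, (if i = j then (1 : L) else 0) • t i := by
      simp only [Finset.sum_smul, mul_smul]
      rw [Finset.sum_comm]
      simp only [← Finset.smul_sum, hd, hc, ite_smul, one_smul, zero_smul, Finset.sum_ite_eq',
        Finset.mem_univ, if_true]
    exact Fintype.linearIndependent_iffₛ.1 htli _ _ e i
  have htai : AlgebraicIndependent L t := by
    let σ : MvPolynomial (Fin m) L →ₐ[L] MvPolynomial (Fin m) L := aeval fun j => ∑ l, C (c j l) * X l
    let τ : MvPolynomial (Fin m) L →ₐ[L] MvPolynomial (Fin m) L := aeval fun l => ∑ i, C (d l i) * X i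
    have h1 : τ.comp σ = AlgHom.id _ _ := MvPolynomial.algHom_ext fun j => by
      simp only [AlgHom.comp_apply, σ, τ, aeval_X, map_sum, map_mul, aeval_C, algebraMap_eq,
        AlgHom.id_apply, Finset.mul_sum]
      rw [Finset.sum_comm]
      have e : ∀ i, ∑ l, C (c j l) * (C (d l i) * X i) = C (if i = j then (1 : L) else 0) * (X i : MvPolynomial (Fin m) L) := fun i => by
        rw [← hcd, map_sum, Finset.sum_mul]
        exact Finset.sum_congr rfl fun l _ => by rw [map_mul, mul_assoc]
      rw [Finset.sum_congr rfl fun i _ => e i, Finset.sum_eq_single j (fun i _ hi => by simp [hi]) (by simp)]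
      simp
    have h2 : (aeval t : MvPolynomial (Fin m) L →ₐ[L] E) = (aeval y).comp σ :=
      MvPolynomial.algHom_ext fun j => by
        simp [σ, map_sum, ← hc j, Algebra.smul_def]
    show Function.Injective (aeval t : MvPolynomial (Fin m) L →ₐ[L] E)
    rw [h2]
    intro p q hpq
    have e := congrArg τ (hy hpq : σ p = σ q)
    rwa [← AlgHom.comp_apply, ← AlgHom.comp_apply, h1] at e
  refine ⟨t, htai, ?_⟩
  set K := adjoin k (((L ⊓ fixedField G : IntermediateField k E) : Set E) ∪ Set.range t) with hK
  refine le_antisymm (adjoin_le_iff.2 ?_) fun e he => ?_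
  · rintro x (hx | ⟨i, rfl⟩)
    · exact hx.2
    · exact (htS i).2
  have halg : ∀ a ∈ (L : Set E), IsAlgebraic K a := fun a ha => by
    let P : Polynomial E := ∏ g : G, (Polynomial.X - Polynomial.C ((g : E ≃ₐ[k] E) a))
    have hco : ∀ j, P.coeff j ∈ L ⊓ fixedField G := fun j => by
      constructor
      · have hP : P ∈ Polynomial.lifts (algebraMap L E) := by
          refine prod_mem fun g _ => ?_
          rw [sub_eq_add_neg, ← map_neg]
          exact add_mem (Polynomial.X_mem_lifts _)
            (Polynomial.C'_mem_lifts ⟨-⟨(g : E ≃ₐ[k] E) a, hL _ g.2 _ ha⟩, rfl⟩)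
        obtain ⟨x, hx⟩ := Polynomial.lifts_iff_coeff_lifts P |>.1 hP j
        exact hx ▸ x.2
      · rw [SetLike.mem_coe, fixed_iff]
        intro h hh
        have e : P.map (h : E →+* E) = P := by
          simp only [P, Polynomial.map_prod, Polynomial.map_sub, Polynomial.map_X, Polynomial.map_C]
          exact Fintype.prod_equiv (Equiv.mulLeft (⟨h, hh⟩ : G)) _ _ fun g => rfl
        have := congrArg (fun Q => Polynomial.coeff Q j) e
        simpa using this
    have hP : P ∈ Polynomial.lifts (algebraMap K E) := (Polynomial.lifts_iff_coeff_lifts P).2 fun j =>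
      ⟨⟨_, subset_adjoin k _ (Or.inl (hco j))⟩, rfl⟩
    obtain ⟨Q, hQ, -, hQm⟩ := Polynomial.lifts_and_degree_eq_and_monic hP
      (Polynomial.monic_prod_of_monic _ _ fun g _ => Polynomial.monic_X_sub_C _)
    refine ⟨Q, hQm.ne_zero, ?_⟩
    rw [Polynomial.aeval_def, ← Polynomial.eval_map, hQ, Polynomial.eval_prod]
    exact Finset.prod_eq_zero (Finset.mem_univ 1) (by simp)
  have htop' : ∀ x, x ∈ adjoin K (L : Set E) := fun x => by
    have : adjoin k ((L : Set E) ∪ Set.range y) ≤ (adjoin K (L : Set E)).restrictScalars k := by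
      refine adjoin_le_iff.2 ?_
      rintro z (hz | ⟨i, rfl⟩)
      · exact subset_adjoin K _ hz
      · show y i ∈ adjoin K (L : Set E)
        rw [← hd i]
        exact sum_mem fun j _ => mul_mem (subset_adjoin K _ (d i j).2)
          ((adjoin K (L : Set E)).algebraMap_mem ⟨t j, subset_adjoin k _ (Or.inr ⟨j, rfl⟩)⟩)
    exact this (htop ▸ mem_top)
  have hspan : e ∈ Submodule.span K (L : Set E) := by
    have h := htop' e
    rw [← mem_toSubalgebra, adjoin_toSubalgebra_of_isAlgebraic halg, ← Subalgebra.mem_toSubmodule,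
      Algebra.adjoin_eq_span] at h
    rwa [show (Submonoid.closure (L : Set E) : Set E) = L from
      congrArg SetLike.coe (Submonoid.closure_eq L.toSubalgebra.toSubmonoid)] at h
  have hKfix : ∀ z ∈ K, ∀ g ∈ G, g z = z := fun z hz =>
    (fixed_iff z).1 (adjoin_le_iff.2 (by rintro x (hx | ⟨i, rfl⟩); exacts [hx.2, (htS i).2]) hz)
  have hmean : ∀ v ∈ Submodule.span K (L : Set E), (∑ g : G, (g : E ≃ₐ[k] E) v) ∈ K := fun v hv => by
    induction hv using Submodule.span_induction with
    | mem x hx => exact subset_adjoin k _ (Or.inl ⟨sum_mem fun g _ => hL _ g.2 _ hx, inv_sum x⟩)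
    | zero => simp
    | add a b _ _ ha hb => simp only [map_add, Finset.sum_add_distrib]; exact add_mem ha hb
    | smul z a _ ha =>
      have : ∀ g : G, (g : E ≃ₐ[k] E) (z • a) = (z : E) * (g : E ≃ₐ[k] E) a := fun g => by
        rw [show z • a = (z : E) * a from rfl, map_mul, hKfix _ z.2 _ g.2]
      simp only [this, ← Finset.mul_sum]
      exact mul_mem z.2 ha
  have hm := hmean e hspan
  simp only [fun g : G => (fixed_iff e).1 he _ g.2, Finset.sum_const, Finset.card_univ, nsmul_eq_mul] at hm
  have hne : ((Fintype.card G : ℕ) : E) ≠ 0 := by exact_mod_cast Fintype.card_ne_zero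
  have := mul_mem (inv_mem (IntermediateField.natCast_mem K (Fintype.card G))) hm
  rwa [inv_mul_cancel_left₀ hne] at this

/-- The rational function field over `F` mapped into `E` by algebraically independent elements. -/
theorem exists_algHom_fieldRange {k F E : Type u} [Field k] [Field F] [Field E] [Algebra k F] [Algebra k E]
    {m : Type} (ι : F →ₐ[k] E) (L : IntermediateField k E) (hι : ∀ a, ι a ∈ L)
    (t : m → E) (ht : AlgebraicIndependent L t) :
    ∃ ψ : FractionRing (MvPolynomial m F) →ₐ[k] E, ψ.fieldRange = adjoin k (Set.range ι ∪ Set.range t) := by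
  let ι' : F →ₐ[k] L := ι.codRestrict L.toSubalgebra hι
  let φ : MvPolynomial m F →ₐ[k] E := ((aeval t : MvPolynomial m L →ₐ[L] E).restrictScalars k).comp (mapAlgHom ι')
  have hφ : Function.Injective φ := fun p q hpq =>
    map_injective ι'.toRingHom ι'.toRingHom.injective (ht hpq)
  have hC : ∀ a, φ (C a) = ι a := fun a => by simp [φ, ι']; rfl
  have hX : ∀ i, φ (X i) = t i := fun i => by simp [φ]
  let ψ : FractionRing (MvPolynomial m F) →ₐ[k] E := IsFractionRing.liftAlgHom hφ
  have hψ : ∀ p, ψ (algebraMap _ _ p) = φ p := fun p => IsFractionRing.lift_algebraMap hφ p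
  refine ⟨ψ, le_antisymm ?_ (adjoin_le_iff.2 ?_)⟩
  · rintro _ ⟨x, rfl⟩
    obtain ⟨a, b, _, rfl⟩ := IsFractionRing.div_surjective (MvPolynomial m F) x
    have hp : ∀ p, φ p ∈ adjoin k (Set.range ι ∪ Set.range t) := fun p => by
      induction p using MvPolynomial.induction_on with
      | C a => rw [hC]; exact subset_adjoin k _ (Or.inl ⟨a, rfl⟩)
      | add p q hp hq => rw [map_add]; exact add_mem hp hq
      | mul_X p i hp => rw [map_mul, hX]; exact mul_mem hp (subset_adjoin k _ (Or.inr ⟨i, rfl⟩))
    show ψ _ ∈ _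
    rw [map_div₀, hψ, hψ]
    exact div_mem (hp a) (hp b)
  · rintro x (⟨a, rfl⟩ | ⟨i, rfl⟩)
    · exact ⟨algebraMap _ _ (C a), (hψ _).trans (hC a)⟩
    · exact ⟨algebraMap _ _ (X i), (hψ _).trans (hX i)⟩

variable {k : Type u} [Field k]

/-- Functoriality: a partition of the variables gives transcendence of one part over the other. -/
theorem algebraicIndependent_adjoin {α β E : Type*} [Field E] [Algebra k E] (x : α → E) (y : β → E)
    (h : AlgebraicIndependent k (Sum.elim y x)) : AlgebraicIndependent (adjoin k (Set.range x)) y :=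
  algebraicIndependent_adjoin_iff.2 (AlgebraicIndependent.sumElim_iff.1 h).2

theorem algebraicIndependent_vars {σ : Type} : AlgebraicIndependent k
    (fun i : σ => algebraMap (MvPolynomial σ k) (FractionRing (MvPolynomial σ k)) (X i)) := by
  have h : (aeval fun i : σ => algebraMap (MvPolynomial σ k) (FractionRing (MvPolynomial σ k)) (X i)) =
      IsScalarTower.toAlgHom k (MvPolynomial σ k) (FractionRing (MvPolynomial σ k)) :=
    MvPolynomial.algHom_ext fun i => by simp
  show Function.Injective _
  rw [h]
  exact IsFractionRing.injective _ _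

theorem adjoin_vars {σ : Type} : adjoin k
    (Set.range fun i : σ => algebraMap (MvPolynomial σ k) (FractionRing (MvPolynomial σ k)) (X i)) = ⊤ := by
  refine eq_top_iff.2 fun x _ => ?_
  set A := adjoin k (Set.range fun i : σ => algebraMap (MvPolynomial σ k) (FractionRing (MvPolynomial σ k)) (X i))
  have hp : ∀ p : MvPolynomial σ k, algebraMap _ (FractionRing (MvPolynomial σ k)) p ∈ A := fun p => by
    induction p using MvPolynomial.induction_on with
    | C a => exact A.algebraMap_mem a
    | add p q hp hq => rw [map_add]; exact add_mem hp hq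
    | mul_X p i hp => rw [map_mul]; exact mul_mem hp (subset_adjoin k _ ⟨i, rfl⟩)
  obtain ⟨a, b, _, rfl⟩ := IsFractionRing.div_surjective (MvPolynomial σ k) x
  exact div_mem (hp a) (hp b)

/-- Automorphisms preserving a generating set preserve the field generated. -/
theorem map_mem_adjoin {E : Type*} [Field E] [Algebra k E] {α : Type*} (x : α → E) (g : E →ₐ[k] E)
    (h : ∀ i, g (x i) ∈ adjoin k (Set.range x)) : ∀ a ∈ adjoin k (Set.range x), g a ∈ adjoin k (Set.range x) := by
  intro a ha
  have : (adjoin k (Set.range x)).map g ≤ adjoin k (Set.range x) := by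
    rw [adjoin_map, adjoin_le_iff]; rintro _ ⟨_, ⟨i, rfl⟩, rfl⟩; exact h i
  exact this ⟨a, ha, rfl⟩

/-- Morphisms agreeing on generators agree on the field generated. -/
theorem eq_on_adjoin {E : Type*} [Field E] [Algebra k E] (s : Set E) (g : E ≃ₐ[k] E)
    (h : ∀ a ∈ s, g a = a) : ∀ a ∈ adjoin k s, g a = a := by
  intro a ha
  induction ha using IntermediateField.adjoin_induction with
  | mem x hx => exact h x hx
  | algebraMap r => exact g.commutes r
  | add x y _ _ hx hy => rw [map_add, hx, hy]
  | inv x _ hx => rw [map_inv₀, hx]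
  | mul x y _ _ hx hy => rw [map_mul, hx, hy]

theorem span_mem_adjoin {E : Type*} [Field E] [Algebra k E] (s : Set E) :
    ∀ a ∈ Submodule.span k s, a ∈ adjoin k s := fun _ ha =>
  (Submodule.span_le (p := (adjoin k s).toSubalgebra.toSubmodule)).2 (subset_adjoin k s) ha

end Groth.Agent.H1Inv
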