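import Groth.Agent.H1Inv.Basic

/-!
# The no-name lemma for a pair of representations
-/

universe u

open MvPolynomial IntermediateField

namespace Groth.Agent.H1Inv

variable {k : Type u} [Field k]

/-- The rational function field mapped along an injective map of the variables. -/
theorem exists_rename_hom {α β : Type} (f : α → β) (hf : Function.Injective f) :
    ∃ ι : FractionRing (MvPolynomial α k) →ₐ[k] FractionRing (MvPolynomial β k),
      (∀ p, ι (algebraMap _ _ p) = algebraMap (MvPolynomial β k) _ (rename f p)) ∧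
      ι.fieldRange = adjoin k (Set.range fun i : α =>
        algebraMap (MvPolynomial β k) (FractionRing (MvPolynomial β k)) (X (f i))) := by
  let φ : MvPolynomial α k →ₐ[k] FractionRing (MvPolynomial β k) :=
    (IsScalarTower.toAlgHom k (MvPolynomial β k) _).comp (rename f)
  have hφ : Function.Injective φ := (IsFractionRing.injective _ _).comp (rename_injective f hf)
  refine ⟨IsFractionRing.liftAlgHom hφ, fun p => IsFractionRing.lift_algebraMap hφ p, ?_⟩
  rw [AlgHom.fieldRange_eq_map, ← adjoin_vars (k := k) (σ := α), adjoin_map, ← Set.range_comp]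
  refine congrArg (fun s : Set _ => adjoin k s) (congrArg Set.range (funext fun i => ?_))
  show IsFractionRing.liftAlgHom hφ (algebraMap _ _ (X i)) = _
  refine (IsFractionRing.lift_algebraMap hφ (X i)).trans ?_
  exact congrArg (algebraMap (MvPolynomial β k) (FractionRing (MvPolynomial β k))) (rename_X f i)

/-- One side of the no-name lemma. -/
theorem side [CharZero k] {n m : ℕ} {E : Type u} [Field E] [Algebra k E]
    (G : Subgroup (FractionRing (MvPolynomial (Fin n) k) ≃ₐ[k] FractionRing (MvPolynomial (Fin n) k)))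
    (G' : Subgroup (E ≃ₐ[k] E)) [Finite G'] (ι : FractionRing (MvPolynomial (Fin n) k) →ₐ[k] E)
    (τ : G →* G') (hτ : Function.Surjective τ)
    (hcomm : ∀ (g : G) z, (τ g : E ≃ₐ[k] E) (ι z) = ι (g.1 z))
    (y : Fin m → E) (hy : AlgebraicIndependent ι.fieldRange y)
    (htop : adjoin k ((ι.fieldRange : Set E) ∪ Set.range y) = ⊤)
    (hgy : ∀ g ∈ G', ∀ i, g (y i) ∈ Submodule.span k (Set.range y)) :
    ∃ ψ : FractionRing (MvPolynomial (Fin m) (fixedField G)) →ₐ[k] E, ψ.fieldRange = fixedField G' := by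
  haveI : CharZero E := charZero_of_injective_algebraMap (algebraMap k E).injective
  obtain ⟨t, hti, htf⟩ := noName G' ι.fieldRange (fun g hg => by
      rintro _ ⟨z, rfl⟩
      obtain ⟨h, hh⟩ := hτ ⟨g, hg⟩
      exact ⟨h.1 z, by rw [← show (τ h : E ≃ₐ[k] E) = g from congrArg Subtype.val hh]; exact (hcomm h z).symm⟩)
    (fun g hg hfix => by
      obtain ⟨h, hh⟩ := hτ ⟨g, hg⟩
      have hg' : (τ h : E ≃ₐ[k] E) = g := congrArg Subtype.val hh
      have : h = 1 := Subtype.ext (AlgEquiv.ext fun z => ι.injective (by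
        show ι (h.1 z) = ι z
        rw [← hcomm, hg']; exact hfix _ ⟨z, rfl⟩))
      rw [← hg', this, map_one]; rfl)
    y hy htop (fun g hg i => Submodule.span_le_restrictScalars k ι.fieldRange _ (hgy g hg i))
  obtain ⟨ψ, hψ⟩ := exists_algHom_fieldRange (ι.comp (fixedField G).val) ι.fieldRange
    (fun a => ⟨_, rfl⟩) t hti
  refine ⟨ψ, hψ.trans ?_⟩
  rw [← htf]
  refine congrArg (fun s : Set E => adjoin k (s ∪ Set.range t)) (Set.ext fun x => ?_)
  constructor
  · rintro ⟨a, rfl⟩
    refine ⟨⟨_, rfl⟩, (mem_fixedField_iff G' _).2 fun g hg => ?_⟩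
    obtain ⟨h, hh⟩ := hτ ⟨g, hg⟩
    rw [← show (τ h : E ≃ₐ[k] E) = g from congrArg Subtype.val hh]
    show (τ h : E ≃ₐ[k] E) (ι (a : _)) = ι (a : _)
    rw [hcomm, (mem_fixedField_iff G _).1 a.2 _ h.2]
  · rintro ⟨⟨z, rfl⟩, hx⟩
    refine ⟨⟨z, (mem_fixedField_iff G z).2 fun g hg => ι.injective ?_⟩, rfl⟩
    show ι ((⟨g, hg⟩ : G).1 z) = ι z
    rw [← hcomm ⟨g, hg⟩]
    exact (mem_fixedField_iff G' _).1 hx _ (τ ⟨g, hg⟩).2

/-- A linear action lifts to the polynomial ring. -/
theorem exists_poly_action {n : ℕ}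
    (G : Subgroup (FractionRing (MvPolynomial (Fin n) k) ≃ₐ[k] FractionRing (MvPolynomial (Fin n) k)))
    (hG : ∀ σ ∈ G, ∀ i : Fin n, σ (algebraMap (MvPolynomial (Fin n) k) _ (X i)) ∈ Submodule.span k
      (Set.range fun j : Fin n => algebraMap (MvPolynomial (Fin n) k) (FractionRing (MvPolynomial (Fin n) k)) (X j))) :
    ∃ φ : G → (MvPolynomial (Fin n) k →ₐ[k] MvPolynomial (Fin n) k),
      (∀ g p, algebraMap _ _ (φ g p) = g.1 (algebraMap _ _ p)) ∧
      (∀ g h p, φ g (φ h p) = φ (g * h) p) ∧ (∀ p, φ 1 p = p) ∧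
      ∀ g i, φ g (X i) ∈ Submodule.span k (Set.range fun j : Fin n => (X j : MvPolynomial (Fin n) k)) := by
  choose c hc using fun (g : G) i => (Submodule.mem_span_range_iff_exists_fun k).1 (hG g g.2 i)
  let φ : G → (MvPolynomial (Fin n) k →ₐ[k] MvPolynomial (Fin n) k) := fun g => aeval fun i => ∑ j, c g i j • X j
  have hX : ∀ g i, φ g (X i) = ∑ j, c g i j • X j := fun g i => aeval_X _ i
  have h1 : ∀ g p, algebraMap _ _ (φ g p) = g.1 (algebraMap _ _ p) := fun g p => by
    have e : (IsScalarTower.toAlgHom k (MvPolynomial (Fin n) k) (FractionRing (MvPolynomial (Fin n) k))).comp (φ g) =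
        g.1.toAlgHom.comp (IsScalarTower.toAlgHom k _ _) :=
      MvPolynomial.algHom_ext fun i => by
        show IsScalarTower.toAlgHom k _ _ (φ g (X i)) = g.1 (algebraMap _ _ (X i))
        rw [hX, map_sum, ← hc g i]
        exact Finset.sum_congr rfl fun j _ => map_smul _ _ _
    exact AlgHom.congr_fun e p
  refine ⟨φ, h1, fun g h p => IsFractionRing.injective _ (FractionRing (MvPolynomial (Fin n) k)) ?_,
    fun p => IsFractionRing.injective _ (FractionRing (MvPolynomial (Fin n) k)) ?_, fun g i => ?_⟩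
  · rw [h1, h1, h1]; rfl
  · rw [h1]; rfl
  · rw [hX]; exact sum_mem fun j _ => Submodule.smul_mem _ _ (Submodule.subset_span ⟨j, rfl⟩)

theorem pair [CharZero k] {n m : ℕ}
    (G : Subgroup (FractionRing (MvPolynomial (Fin n) k) ≃ₐ[k] FractionRing (MvPolynomial (Fin n) k))) [Finite G]
    (H : Subgroup (FractionRing (MvPolynomial (Fin m) k) ≃ₐ[k] FractionRing (MvPolynomial (Fin m) k))) (e : G ≃* H)
    (hG : ∀ σ ∈ G, ∀ i : Fin n, σ (algebraMap (MvPolynomial (Fin n) k) _ (X i)) ∈ Submodule.span k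
      (Set.range fun j : Fin n => algebraMap (MvPolynomial (Fin n) k) (FractionRing (MvPolynomial (Fin n) k)) (X j)))
    (hH : ∀ σ ∈ H, ∀ i : Fin m, σ (algebraMap (MvPolynomial (Fin m) k) _ (X i)) ∈ Submodule.span k
      (Set.range fun j : Fin m => algebraMap (MvPolynomial (Fin m) k) (FractionRing (MvPolynomial (Fin m) k)) (X j))) :
    Nonempty (FractionRing (MvPolynomial (Fin m) (fixedField G)) ≃ₐ[k]
      FractionRing (MvPolynomial (Fin n) (fixedField H))) := by
  obtain ⟨φ, hφ, hφm, hφ1, hφs⟩ := exists_poly_action G hG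
  obtain ⟨φ', hφ', hφ'm, hφ'1, hφ's⟩ := exists_poly_action H hH
  let P := MvPolynomial (Fin n ⊕ Fin m) k
  let E := FractionRing P
  let ψ : G → (P →ₐ[k] P) := fun g =>
    aeval (Sum.elim (fun i => rename Sum.inl (φ g (X i))) (fun j => rename Sum.inr (φ' (e g) (X j))))
  have hl : ∀ g p, ψ g (rename Sum.inl p) = rename Sum.inl (φ g p) := fun g p =>
    AlgHom.congr_fun (show (ψ g).comp (rename Sum.inl) = (rename Sum.inl).comp (φ g) from
      MvPolynomial.algHom_ext fun i => (congrArg (ψ g) (rename_X _ i)).trans (aeval_X _ _)) p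
  have hr : ∀ g p, ψ g (rename Sum.inr p) = rename Sum.inr (φ' (e g) p) := fun g p =>
    AlgHom.congr_fun (show (ψ g).comp (rename Sum.inr) = (rename Sum.inr).comp (φ' (e g)) from
      MvPolynomial.algHom_ext fun i => (congrArg (ψ g) (rename_X _ i)).trans (aeval_X _ _)) p
  have hm : ∀ g h, (ψ g).comp (ψ h) = ψ (g * h) := fun g h => MvPolynomial.algHom_ext fun i => by
    rcases i with i | i
    · show ψ g (ψ h (X (Sum.inl i))) = ψ (g * h) (X (Sum.inl i))
      simp only [← rename_X Sum.inl i, hl, hφm]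
    · show ψ g (ψ h (X (Sum.inr i))) = ψ (g * h) (X (Sum.inr i))
      simp only [← rename_X Sum.inr i, hr, hφ'm, map_mul]
  have h1 : ψ 1 = AlgHom.id k P := MvPolynomial.algHom_ext fun i => by
    rcases i with i | i
    · simp only [← rename_X Sum.inl i, hl, hφ1]; rfl
    · simp only [← rename_X Sum.inr i, hr, map_one, hφ'1]; rfl
  let Ψ : G → (P ≃ₐ[k] P) := fun g => AlgEquiv.ofAlgHom (ψ g) (ψ g⁻¹)
    (by rw [hm, mul_inv_cancel, h1]) (by rw [hm, inv_mul_cancel, h1])
  let Θ₀ : G → (E ≃ₐ[k] E) := fun g => IsFractionRing.algEquivOfAlgEquiv (Ψ g)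
  have hΘ : ∀ g p, Θ₀ g (algebraMap P E p) = algebraMap P E (ψ g p) := fun g p =>
    IsFractionRing.algEquivOfAlgEquiv_algebraMap (Ψ g) p
  have hext : ∀ f g : E →ₐ[k] E, (∀ p, f (algebraMap P E p) = g (algebraMap P E p)) → f = g := fun f g hfg =>
    AlgHom.ext fun x => by
      obtain ⟨a, b, _, rfl⟩ := IsFractionRing.div_surjective P x
      rw [map_div₀, map_div₀, hfg, hfg]
  let Θ : G →* (E ≃ₐ[k] E) := MonoidHom.mk' Θ₀ fun g h => AlgEquiv.ext fun x =>
    AlgHom.congr_fun (hext (Θ₀ (g * h)).toAlgHom ((Θ₀ g).toAlgHom.comp (Θ₀ h).toAlgHom) fun p => by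
      show Θ₀ (g * h) _ = Θ₀ g (Θ₀ h _)
      rw [hΘ, hΘ, hΘ, ← hm g h]; rfl) x
  haveI : Finite Θ.range := Finite.of_surjective Θ.rangeRestrict Θ.rangeRestrict_surjective
  obtain ⟨ιx, hιx, hιxr⟩ := exists_rename_hom (k := k) (Sum.inl : Fin n → Fin n ⊕ Fin m) Sum.inl_injective
  obtain ⟨ιy, hιy, hιyr⟩ := exists_rename_hom (k := k) (Sum.inr : Fin m → Fin n ⊕ Fin m) Sum.inr_injective
  have hcx : ∀ (g : G) z, Θ g (ιx z) = ιx (g.1 z) := fun g z => by
    obtain ⟨a, b, _, rfl⟩ := IsFractionRing.div_surjective (MvPolynomial (Fin n) k) z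
    have key : ∀ p, Θ g (ιx (algebraMap _ _ p)) = ιx (g.1 (algebraMap _ _ p)) := fun p =>
      (congrArg (Θ g) (hιx p)).trans ((hΘ g _).trans ((congrArg (algebraMap P E) (hl g p)).trans
        ((hιx _).symm.trans (congrArg ιx (hφ g p)))))
    rw [map_div₀, map_div₀, map_div₀, map_div₀, key, key]
  have hcy : ∀ (g : G) z, Θ g (ιy z) = ιy ((e g).1 z) := fun g z => by
    obtain ⟨a, b, _, rfl⟩ := IsFractionRing.div_surjective (MvPolynomial (Fin m) k) z
    have key : ∀ p, Θ g (ιy (algebraMap _ _ p)) = ιy ((e g).1 (algebraMap _ _ p)) := fun p =>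
      (congrArg (Θ g) (hιy p)).trans ((hΘ g _).trans ((congrArg (algebraMap P E) (hr g p)).trans
        ((hιy _).symm.trans (congrArg ιy (hφ' (e g) p)))))
    rw [map_div₀, map_div₀, map_div₀, map_div₀, key, key]
  have hv : ∀ i, algebraMap P E (X i) ∈ adjoin k ((ιx.fieldRange : Set E) ∪ Set.range fun j => algebraMap P E (X (Sum.inr j))) ∧
      algebraMap P E (X i) ∈ adjoin k ((ιy.fieldRange : Set E) ∪ Set.range fun j => algebraMap P E (X (Sum.inl j))) := by
    rintro (i | i)
    · exact ⟨subset_adjoin k _ (Or.inl (by rw [hιxr]; exact subset_adjoin k _ ⟨i, rfl⟩)), subset_adjoin k _ (Or.inr ⟨i, rfl⟩)⟩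
    · exact ⟨subset_adjoin k _ (Or.inr ⟨i, rfl⟩), subset_adjoin k _ (Or.inl (by rw [hιyr]; exact subset_adjoin k _ ⟨i, rfl⟩))⟩
  have hspan : ∀ {α : Type} (f : α → Fin n ⊕ Fin m) (q : MvPolynomial α k),
      q ∈ Submodule.span k (Set.range fun j : α => (X j : MvPolynomial α k)) →
      algebraMap P E (rename f q) ∈ Submodule.span k (Set.range fun j => algebraMap P E (X (f j))) := fun {α} f q hq => by
    have := Submodule.apply_mem_span_image_of_mem_span
      ((IsScalarTower.toAlgHom k P E).comp (rename f)).toLinearMap hq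
    rw [← Set.range_comp] at this
    have e : (fun j => algebraMap P E (rename f (X j : MvPolynomial α k))) = fun j => algebraMap P E (X (f j)) :=
      funext fun j => congrArg (algebraMap P E) (rename_X f j)
    rw [← e]; exact this
  obtain ⟨ψ₁, h₁⟩ := side G Θ.range ιx Θ.rangeRestrict Θ.rangeRestrict_surjective hcx
    (fun j => algebraMap P E (X (Sum.inr j)))
    (by
      rw [hιxr]
      refine algebraicIndependent_adjoin _ _ ?_
      have := (algebraicIndependent_vars (k := k) (σ := Fin n ⊕ Fin m)).comp Sum.swap (Equiv.sumComm _ _).injective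
      refine (Eq.subst (motive := fun v => AlgebraicIndependent k v) ?_ this)
      funext i; cases i <;> rfl)
    (eq_top_iff.2 (by rw [← adjoin_vars, adjoin_le_iff]; rintro _ ⟨i, rfl⟩; exact (hv i).1))
    (by
      rintro _ ⟨g, rfl⟩ j
      rw [show Θ g (algebraMap P E (X (Sum.inr j))) = _ from hΘ g _, ← rename_X Sum.inr j, hr]
      exact hspan _ _ (hφ's _ _))
  obtain ⟨ψ₂, h₂⟩ := side H Θ.range ιy (Θ.rangeRestrict.comp e.symm.toMonoidHom)
    (Θ.rangeRestrict_surjective.comp e.symm.surjective)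
    (fun h z => (hcy (e.symm h) z).trans (by rw [e.apply_symm_apply]))
    (fun j => algebraMap P E (X (Sum.inl j)))
    (by
      rw [hιyr]
      refine algebraicIndependent_adjoin _ _ ?_
      refine (Eq.subst (motive := fun v => AlgebraicIndependent k v) ?_ algebraicIndependent_vars)
      funext i; cases i <;> rfl)
    (eq_top_iff.2 (by rw [← adjoin_vars, adjoin_le_iff]; rintro _ ⟨i, rfl⟩; exact (hv i).2))
    (by
      rintro _ ⟨g, rfl⟩ j
      rw [show Θ g (algebraMap P E (X (Sum.inl j))) = _ from hΘ g _, ← rename_X Sum.inl j, hl]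
      exact hspan _ _ (hφs _ _))
  have hh : ψ₁.range = ψ₂.range := congrArg IntermediateField.toSubalgebra (h₁.trans h₂.symm)
  exact ⟨((AlgEquiv.ofInjective ψ₁ ψ₁.injective).trans (Subalgebra.equivOfEq _ _ hh)).trans
    (AlgEquiv.ofInjective ψ₂ ψ₂.injective).symm⟩

end Groth.Agent.H1Inv
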